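import Mathlib
import Groth.Prelude.Def_Exal2

/-! Basic lemmas on square-zero extensions of algebras. -/

set_option autoImplicit false
universe u v w

namespace Groth.Agent.ExalLib

open Exal

variable {A : Type u} {B L : Type v} [CommRing A] [CommRing B] [Algebra A B] [AddCommGroup L] [Module B L]

theorem proj_incl (X : Ext A B L) (z : L) : X.proj (X.incl z) = 0 :=
  (X.isExtension.exact _).2 ⟨z, rfl⟩

theorem incl_mul_incl (X : Ext A B L) (z z' : L) : X.incl z * X.incl z' = 0 := by
  rw [X.isExtension.mul_incl, proj_incl, zero_smul, map_zero]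

theorem mul_of_proj_eq_zero (X : Ext A B L) {x y : X.E} (hx : X.proj x = 0) (hy : X.proj y = 0) :
    x * y = 0 := by
  obtain ⟨z, rfl⟩ := (X.isExtension.exact x).1 hx
  obtain ⟨z', rfl⟩ := (X.isExtension.exact y).1 hy
  exact incl_mul_incl X z z'

theorem exists_eq_add_incl (X : Ext A B L) {x y : X.E} (h : X.proj x = X.proj y) :
    ∃ z, x = y + X.incl z := by
  obtain ⟨z, hz⟩ := (X.isExtension.exact (x - y)).1 (by rw [map_sub, h, sub_self])
  exact ⟨z, by rw [hz, add_sub_cancel]⟩

theorem add_incl_mul_add_incl (X : Ext A B L) (x x' : X.E) (z z' : L) :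
    (x + X.incl z) * (x' + X.incl z') = x * x' + X.incl (X.proj x • z' + X.proj x' • z) := by
  rw [map_add, ← X.isExtension.mul_incl, ← X.isExtension.mul_incl, add_mul, mul_add, mul_add,
    incl_mul_incl, add_zero, mul_comm (X.incl z) x']
  abel

theorem kerLift_eq (X : Ext A B L) (x : X.E) (hx : X.proj x = 0) {z : L} (h : X.incl z = x) :
    X.kerLift x hx = z :=
  X.isExtension.incl_injective ((X.incl_kerLift x hx).trans h.symm)

/-- A morphism of extensions is bijective. -/
theorem bijective_hom (X Y : Ext A B L) (φ : X.E →+* Y.E) (hp : ∀ x, Y.proj (φ x) = X.proj x)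
    (hi : ∀ z, φ (X.incl z) = Y.incl z) : Function.Bijective φ := by
  constructor
  · refine (injective_iff_map_eq_zero φ).2 fun x hx => ?_
    obtain ⟨z, rfl⟩ := (X.isExtension.exact x).1 (by rw [← hp x, hx, map_zero])
    rw [hi, ← map_zero Y.incl] at hx
    rw [Y.isExtension.incl_injective hx, map_zero]
  · intro y
    obtain ⟨x, hx⟩ := X.isExtension.proj_surjective (Y.proj y)
    obtain ⟨z, hz⟩ := exists_eq_add_incl Y (x := y) (y := φ x) (by rw [hp, hx])
    exact ⟨x + X.incl z, by rw [map_add, hi, ← hz]⟩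

theorem nonempty_equiv (X Y : Ext A B L) (φ : X.E →ₐ[A] Y.E) (hp : ∀ x, Y.proj (φ x) = X.proj x)
    (hi : ∀ z, φ (X.incl z) = Y.incl z) : Nonempty (X.Equiv Y) :=
  ⟨⟨AlgEquiv.ofBijective φ (bijective_hom X Y φ.toRingHom hp hi), hp, hi⟩⟩

section SqZero

variable {E : Type v} [CommRing E] [Algebra A E] (f : E →ₐ[A] B) (hf : Function.Surjective f)
  (hsq : ∀ x y : E, f x = 0 → f y = 0 → x * y = 0)

/-- The kernel of a square-zero surjection. -/
@[nolint unusedArguments]
def SqKer (_hf : Function.Surjective f) (_hsq : ∀ x y : E, f x = 0 → f y = 0 → x * y = 0) : Type v :=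
  RingHom.ker f.toRingHom

instance : AddCommGroup (SqKer f hf hsq) := inferInstanceAs (AddCommGroup (RingHom.ker f.toRingHom))

/-- The inclusion. -/
def SqKer.val : SqKer f hf hsq →+ E :=
  { toFun := fun z => (Subtype.val (show RingHom.ker f.toRingHom from z)), map_zero' := rfl, map_add' := fun _ _ => rfl }

theorem SqKer.val_injective : Function.Injective (SqKer.val f hf hsq) := Subtype.val_injective

theorem SqKer.map_val (z : SqKer f hf hsq) : f (SqKer.val f hf hsq z) = 0 :=
  (Subtype.prop (show RingHom.ker f.toRingHom from z) : _)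

include hsq in
theorem mul_congr {x x' : E} (h : f x = f x') {y : E} (hy : f y = 0) : x * y = x' * y := by
  rw [← sub_eq_zero, ← sub_mul]
  exact hsq _ _ (by rw [map_sub, h, sub_self]) hy

noncomputable instance : SMul B (SqKer f hf hsq) where
  smul b z := (⟨Function.surjInv hf b * SqKer.val f hf hsq z,
    Ideal.mul_mem_left _ _ (show RingHom.ker f.toRingHom from z).2⟩ : RingHom.ker f.toRingHom)

theorem SqKer.val_smul (x : E) (z : SqKer f hf hsq) :
    SqKer.val f hf hsq (f x • z) = x * SqKer.val f hf hsq z :=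
  mul_congr f hsq (Function.surjInv_eq hf _) (SqKer.map_val f hf hsq z)

noncomputable instance : Module B (SqKer f hf hsq) where
  one_smul z := SqKer.val_injective f hf hsq (by rw [← map_one f, SqKer.val_smul, one_mul])
  mul_smul b c z := SqKer.val_injective f hf hsq (by
    obtain ⟨x, rfl⟩ := hf b
    obtain ⟨y, rfl⟩ := hf c
    rw [← map_mul, SqKer.val_smul, SqKer.val_smul, SqKer.val_smul, mul_assoc])
  smul_zero b := SqKer.val_injective f hf hsq (by
    obtain ⟨x, rfl⟩ := hf b
    rw [SqKer.val_smul, map_zero, mul_zero])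
  smul_add b y z := SqKer.val_injective f hf hsq (by
    obtain ⟨x, rfl⟩ := hf b
    rw [SqKer.val_smul, map_add, map_add, SqKer.val_smul, SqKer.val_smul, mul_add])
  add_smul b c z := SqKer.val_injective f hf hsq (by
    obtain ⟨x, rfl⟩ := hf b
    obtain ⟨y, rfl⟩ := hf c
    rw [← map_add, SqKer.val_smul, map_add, SqKer.val_smul, SqKer.val_smul, add_mul])
  zero_smul z := SqKer.val_injective f hf hsq (by
    rw [← map_zero f, SqKer.val_smul, zero_mul, map_zero])

/-- The extension attached to a square-zero surjection. -/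
noncomputable def sqExt : Ext A B (SqKer f hf hsq) where
  E := E
  proj := f
  incl := SqKer.val f hf hsq
  isExtension :=
    { proj_surjective := hf
      incl_injective := SqKer.val_injective f hf hsq
      exact := fun x => ⟨fun hx => ⟨(⟨x, hx⟩ : RingHom.ker f.toRingHom), rfl⟩, fun ⟨z, hz⟩ => hz ▸ SqKer.map_val f hf hsq z⟩
      mul_incl := fun x z => (SqKer.val_smul f hf hsq x z).symm }

end SqZero

end Groth.Agent.ExalLib
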